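import Cfsg.Agent.H402.PSL2Sizes
import Cfsg.Agent.OrdDiv.Main

/-!
# S3677, task E1: centralizers in `L₂(V)`
-/

set_option autoImplicit false

namespace Cfsg.Agent.H403.CS

open Subgroup Cfsg.Agent.H402 Cfsg.Agent.H402.PSL2Cls

universe u

section
variable {F : Type*} [Field F] [Fintype F]

/-- the four possibilities -/
def Poss (V c : ℕ) : Prop :=
  c = V ∨ c * Nat.gcd 2 (V - 1) = V - 1 ∨ c * Nat.gcd 2 (V - 1) = V + 1 ∨ Even c

theorem cent_psl {x : PSL F} (hx : x ≠ 1) :
    Poss (Fintype.card F) (Nat.card (centralizer ({x} : Set (PSL F)))) := by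
  have hV : 2 ≤ Fintype.card F := Fintype.one_lt_card
  set V := Fintype.card F with hVd
  have hc := (centralizer ({x} : Set (PSL F))).card_mul_index
  set c := Nat.card (centralizer ({x} : Set (PSL F))) with hcd
  change c * ix x = Nat.card (PSL F) at hc
  have hsq : V ^ 2 - 1 = (V - 1) * (V + 1) := by
    obtain ⟨k, hk⟩ : ∃ k, V = k + 1 := ⟨V - 1, by omega⟩
    rw [hk, Nat.add_sub_cancel]
    have : (k + 1) ^ 2 = k * (k + 1 + 1) + 1 := by ring
    omega
  by_cases h2 : (2 : F) = 0
  · have hcard := card_PSL_even h2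
    rw [← hVd, hsq] at hcard
    have hgcd : Nat.gcd 2 (V - 1) = 1 := by
      have hev : Even V := by
        rw [← Nat.not_odd_iff_even, hVd, ← Cfsg.Agent.ClassicalGeometry.PSL2Basic.two_ne_zero_iff_odd F]
        exact not_not.2 h2
      rw [Nat.gcd_comm]
      apply Nat.Coprime.symm
      rw [Nat.coprime_two_left]
      rcases hev with ⟨k, hk⟩
      exact ⟨k - 1, by omega⟩
    obtain ⟨M, rfl⟩ := pj_surj x
    by_cases h : tr M ^ 2 = 4
    · left
      have h3 := ix_up rfl hx h
      rw [← hc, ← hVd, mul_comm] at h3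
      have h4 : 0 < ix (pj M) := by
        rcases Nat.eq_zero_or_pos (ix (pj M)) with h0 | h0
        · exfalso
          rw [h0, mul_zero, eq_comm] at hc
          exact Nat.card_pos.ne' hc
        · exact h0
      exact (Nat.eq_of_mul_eq_mul_right h4 h3).symm
    · have h3 := ix_of_ne h (Or.inr h2)
      rw [card_tr, ← hVd] at h3
      rw [Poss, hgcd, mul_one]
      right
      rcases rho_cases (tr M) h with h4 | h4
      · right; left
        rw [h4, mul_zero, add_zero] at h3
        rw [hcard, h3] at hc
        have h5 : 0 < V * (V - 1) := Nat.mul_pos (by omega) (by omega)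
        apply Nat.eq_of_mul_eq_mul_right h5
        rw [hc]; ring
      · left
        have h6 : V * (V - 1) + V * 2 = V * (V + 1) := by
          rw [← mul_add]; congr 1; omega
        rw [h4, h6] at h3
        rw [hcard, h3] at hc
        have h5 : 0 < V * (V + 1) := Nat.mul_pos (by omega) (by omega)
        apply Nat.eq_of_mul_eq_mul_right h5
        rw [hc]; ring
  · have hcard := card_PSL_odd h2
    rw [← hVd, hsq, ← hc] at hcard
    have hodd : Odd V := by
      rw [hVd, ← Cfsg.Agent.ClassicalGeometry.PSL2Basic.two_ne_zero_iff_odd F]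
      exact h2
    obtain ⟨k, hk⟩ := hodd
    have hgcd : Nat.gcd 2 (V - 1) = 2 := Nat.gcd_eq_left ⟨k, by omega⟩
    rw [Poss, hgcd]
    rcases cases_odd h2 hx with h | ⟨t, ht0, ht4, h⟩ | ⟨h, -⟩
    · left
      rw [← hVd, hsq] at h
      have h5 : 0 < (V - 1) * (V + 1) := Nat.mul_pos (by omega) (by omega)
      apply Nat.eq_of_mul_eq_mul_right h5
      rw [← hcard, ← h]; ring
    · right
      rw [← hVd] at h
      rcases rho_cases t ht4 with h4 | h4
      · right; left
        rw [h4, mul_zero, add_zero] at h
        have h5 : 0 < V * (V - 1) := Nat.mul_pos (by omega) (by omega)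
        apply Nat.eq_of_mul_eq_mul_right h5
        have h7 : c * 2 * (V * (V - 1)) = 2 * (c * ix x) := by rw [h]; ring
        rw [h7, hcard]; ring
      · left
        have h6 : V * (V - 1) + V * 2 = V * (V + 1) := by
          rw [← mul_add]; congr 1; omega
        rw [h4, h6] at h
        have h5 : 0 < V * (V + 1) := Nat.mul_pos (by omega) (by omega)
        apply Nat.eq_of_mul_eq_mul_right h5
        have h7 : c * 2 * (V * (V + 1)) = 2 * (c * ix x) := by rw [h]; ring
        rw [h7, hcard]; ring
    · right; right; right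
      rw [← hVd] at h
      have h0 : (0 : F) ^ 2 ≠ 4 := by
        rw [zero_pow two_ne_zero]
        intro h0
        have h5 : (2 : F) * 2 = 0 := by linear_combination -h0
        rcases mul_eq_zero.1 h5 with h6 | h6 <;> exact h2 h6
      rcases rho_cases (0 : F) h0 with h4 | h4
      · rw [h4, mul_zero, add_zero] at h
        have h5 : 0 < V * (V - 1) := Nat.mul_pos (by omega) (by omega)
        have h7 : c = V + 1 := by
          apply Nat.eq_of_mul_eq_mul_right h5
          have h8 : c * (V * (V - 1)) = 2 * (c * ix x) := by rw [← h]; ring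
          rw [h8, hcard]; ring
        rw [h7]; exact ⟨k + 1, by omega⟩
      · have h6 : V * (V - 1) + V * 2 = V * (V + 1) := by
          rw [← mul_add]; congr 1; omega
        rw [h4, h6] at h
        have h5 : 0 < V * (V + 1) := Nat.mul_pos (by omega) (by omega)
        have h7 : c = V - 1 := by
          apply Nat.eq_of_mul_eq_mul_right h5
          have h8 : c * (V * (V + 1)) = 2 * (c * ix x) := by rw [← h]; ring
          rw [h8, hcard]; ring
        rw [h7]; exact ⟨k, by omega⟩

end

theorem card_cent_equiv {G H : Type*} [Group G] [Group H] (e : G ≃* H) (x : G) :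
    Nat.card (centralizer ({x} : Set G)) = Nat.card (centralizer ({e x} : Set H)) := by
  apply Nat.card_congr
  refine ⟨fun y => ⟨e y, ?_⟩, fun y => ⟨e.symm y, ?_⟩, fun y => ?_, fun y => ?_⟩
  · have h := Subgroup.mem_centralizer_singleton_iff.1 y.2
    rw [Subgroup.mem_centralizer_singleton_iff, ← map_mul, h, map_mul]
  · have h := Subgroup.mem_centralizer_singleton_iff.1 y.2
    rw [Subgroup.mem_centralizer_singleton_iff]
    apply e.injective
    rw [map_mul, map_mul, e.apply_symm_apply, h]
  · simp
  · simp

theorem cent_real {S : Type u} [Group S] {V : ℕ} (hr : OrdDiv.Real (.psl 2 V) S) {x : S} (hx : x ≠ 1) :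
    Poss V (Nat.card (centralizer ({x} : Set S))) := by
  obtain ⟨F, _, _, hF, ⟨e⟩⟩ := hr
  rw [card_cent_equiv e x, ← hF]
  exact cent_psl fun h => hx (by simpa using h)

end Cfsg.Agent.H403.CS
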