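import Mathlib
import Cfsg.Agent.H221.CS.Basic

/-!
# S3677, task E1: the numbers (helper403)
-/

set_option autoImplicit false

namespace Cfsg.Agent.H403.CS

open Finset Cfsg.Agent.H902.Art Cfsg.Agent.H902.Lte Cfsg.Agent.H364.SpVal Cfsg.Agent.H364.SpSmall Cfsg.Agent.H221.CS

/-- the order of the centralizer of an element of prime order divides `m` -/
def Cen (m V : ℕ) : Prop :=
  ∃ c, c ∣ m ∧ (c = V ∨ c * Nat.gcd 2 (V - 1) = V - 1 ∨ c * Nat.gcd 2 (V - 1) = V + 1)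

theorem Cen.le {m V : ℕ} (h : Cen m V) (hm : 0 < m) : V ≤ 2 * m + 1 := by
  obtain ⟨c, hc, h⟩ := h
  have h1 := Nat.le_of_dvd hm hc
  have h2 : Nat.gcd 2 (V - 1) ≤ 2 := Nat.le_of_dvd (by norm_num) (Nat.gcd_dvd_left _ _)
  have h3 : c * Nat.gcd 2 (V - 1) ≤ m * 2 := Nat.mul_le_mul h1 h2
  omega

theorem sq_sub {V : ℕ} (hV : 1 ≤ V) : V ^ 2 - 1 = (V - 1) * (V + 1) := by
  obtain ⟨k, rfl⟩ : ∃ k, V = k + 1 := ⟨V - 1, by omega⟩
  rw [Nat.add_sub_cancel]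
  have : (k + 1) ^ 2 = k * (k + 1 + 1) + 1 := by ring
  omega

/-- a divisor prime to `m` -/
theorem caseB {m V d g t : ℕ} (h : Cen m V) (hV : 2 ≤ V) (hd : 1 ≤ d) (hg : 1 ≤ g) (hco : Nat.Coprime t m)
    (ht : t ∣ d * (g * (V * (V ^ 2 - 1)))) : t ≤ 2 * d * g * (V * (V + 1)) := by
  obtain ⟨c, hc, h⟩ := h
  have hct : Nat.Coprime t c := hco.coprime_dvd_right hc
  have hgc : Nat.gcd 2 (V - 1) ≤ 2 := Nat.le_of_dvd (by norm_num) (Nat.gcd_dvd_left _ _)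
  have hgc0 : 1 ≤ Nat.gcd 2 (V - 1) := Nat.gcd_pos_of_pos_left _ (by norm_num)
  set e := Nat.gcd 2 (V - 1) with he
  rw [sq_sub (by omega)] at ht
  have hdg : 1 ≤ d * g := Nat.mul_pos hd hg
  rcases h with h | h | h
  · have h1 : t ∣ c * (d * g * ((V - 1) * (V + 1))) := by
      rw [h]
      calc t ∣ _ := ht
        _ = _ := by ring
    have h2 := hct.dvd_of_dvd_mul_left h1
    have h3 : 0 < (V - 1) * (V + 1) := Nat.mul_pos (by omega) (by omega)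
    have h4 := Nat.le_of_dvd (Nat.mul_pos hdg h3) h2
    calc t ≤ d * g * ((V - 1) * (V + 1)) := h4
      _ ≤ (2 * d * g) * (V * (V + 1)) := by
        apply Nat.mul_le_mul
        · rw [mul_assoc]; omega
        · exact Nat.mul_le_mul_right _ (by omega)
  · have h1 : t ∣ c * (e * d * g * (V * (V + 1))) := by
      calc t ∣ _ := ht
        _ = d * (g * (V * ((c * e) * (V + 1)))) := by rw [h]
        _ = _ := by ring
    have h2 := hct.dvd_of_dvd_mul_left h1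
    have h3 : 0 < V * (V + 1) := Nat.mul_pos (by omega) (by omega)
    have h4 := Nat.le_of_dvd (Nat.mul_pos (by rw [mul_assoc]; exact Nat.mul_pos hgc0 hdg) h3) h2
    refine h4.trans (Nat.mul_le_mul_right _ ?_)
    rw [mul_assoc, mul_assoc]
    exact Nat.mul_le_mul_right _ hgc
  · have h1 : t ∣ c * (e * d * g * (V * (V - 1))) := by
      calc t ∣ _ := ht
        _ = d * (g * (V * ((V - 1) * (c * e)))) := by rw [h]
        _ = _ := by ring
    have h2 := hct.dvd_of_dvd_mul_left h1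
    have h3 : 0 < V * (V - 1) := Nat.mul_pos (by omega) (by omega)
    have h4 := Nat.le_of_dvd (Nat.mul_pos (by rw [mul_assoc]; exact Nat.mul_pos hgc0 hdg) h3) h2
    refine h4.trans (Nat.mul_le_mul ?_ (Nat.mul_le_mul_left _ (by omega)))
    rw [mul_assoc, mul_assoc]
    exact Nat.mul_le_mul_right _ hgc

theorem caseA {V d g t : ℕ} (hV : 2 ≤ V) (hd : 1 ≤ d) (hg : 1 ≤ g)
    (ht : t ∣ d * (g * (V * (V ^ 2 - 1)))) : t ≤ d * g * V ^ 3 := by
  have h1 : 1 < V ^ 2 := Nat.one_lt_pow (by norm_num) (by omega)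
  have h2 : 0 < V * (V ^ 2 - 1) := Nat.mul_pos (by omega) (by omega)
  refine (Nat.le_of_dvd (Nat.mul_pos hd (Nat.mul_pos hg h2)) ht).trans ?_
  rw [mul_assoc]
  apply Nat.mul_le_mul_left
  apply Nat.mul_le_mul_left
  calc V * (V ^ 2 - 1) ≤ V * V ^ 2 := Nat.mul_le_mul_left _ (by omega)
    _ = V ^ 3 := by ring

theorem sq_le_two {g V : ℕ} (h : 2 ^ g ≤ V) : g ^ 2 ≤ 2 * V := by
  have key : ∀ g : ℕ, g ^ 2 ≤ 2 * 2 ^ g := by
    intro g
    rcases Nat.lt_or_ge g 4 with h | h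
    · interval_cases g <;> norm_num
    · induction g, h using Nat.le_induction with
      | base => norm_num
      | succ k hk ih =>
        have h1 : 2 ^ (k + 1) = 2 * 2 ^ k := by ring
        nlinarith
  exact (key g).trans (Nat.mul_le_mul_left _ h)

/-- case B -/
theorem boundB {m V d g t Q : ℕ} (h : Cen m V) (hV : 2 ^ g ≤ V) (hd : 1 ≤ d) (hd2 : d ≤ 2) (hg : 1 ≤ g) (hm : 0 < m)
    (hco : Nat.Coprime t m) (hQ : d * m ≤ Q + 1)
    (ht : t ∣ d * (g * (V * (V ^ 2 - 1)))) : t ^ 2 ≤ 256 * (Q + 3) ^ 5 := by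
  have hV2 : 2 ≤ V := le_trans (by
    calc 2 = 2 ^ 1 := rfl
      _ ≤ 2 ^ g := Nat.pow_le_pow_right (by norm_num) hg) hV
  have h1 := caseB h hV2 hd hg hco ht
  have h2 := h.le hm
  have h3 := sq_le_two hV
  have h4 : t ^ 2 ≤ (2 * d * g * (V * (V + 1))) ^ 2 := Nat.pow_le_pow_left h1 2
  have h5 : (2 * d * g * (V * (V + 1))) ^ 2 = 4 * d ^ 2 * g ^ 2 * (V ^ 2 * (V + 1) ^ 2) := by ring
  rw [h5] at h4
  have h6 : 4 * d ^ 2 * g ^ 2 * (V ^ 2 * (V + 1) ^ 2) ≤ 4 * d ^ 2 * (2 * V) * (V ^ 2 * (V + 1) ^ 2) :=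
    Nat.mul_le_mul_right _ (Nat.mul_le_mul_left _ h3)
  refine h4.trans (h6.trans ?_)
  have h8 : V ≤ V + 1 := by omega
  have : 1 ≤ V + 1 := by omega
  interval_cases d
  · have h7 : V + 1 ≤ 2 * (Q + 3) := by omega
    calc 4 * 1 ^ 2 * (2 * V) * (V ^ 2 * (V + 1) ^ 2) = 8 * (V ^ 3 * (V + 1) ^ 2) := by ring
      _ ≤ 8 * ((V + 1) ^ 3 * (V + 1) ^ 2) := by
        apply Nat.mul_le_mul_left
        apply Nat.mul_le_mul_right
        exact Nat.pow_le_pow_left h8 3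
      _ = 8 * (V + 1) ^ 5 := by ring
      _ ≤ 8 * (2 * (Q + 3)) ^ 5 := Nat.mul_le_mul_left _ (Nat.pow_le_pow_left h7 5)
      _ = 256 * (Q + 3) ^ 5 := by ring
  · have h7 : V + 1 ≤ Q + 3 := by omega
    calc 4 * 2 ^ 2 * (2 * V) * (V ^ 2 * (V + 1) ^ 2) = 32 * (V ^ 3 * (V + 1) ^ 2) := by ring
      _ ≤ 32 * ((V + 1) ^ 3 * (V + 1) ^ 2) := by
        apply Nat.mul_le_mul_left
        apply Nat.mul_le_mul_right
        exact Nat.pow_le_pow_left h8 3
      _ = 32 * (V + 1) ^ 5 := by ring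
      _ ≤ 32 * (Q + 3) ^ 5 := Nat.mul_le_mul_left _ (Nat.pow_le_pow_left h7 5)
      _ ≤ 256 * (Q + 3) ^ 5 := Nat.mul_le_mul_right _ (by norm_num)

/-- case A -/
theorem boundA {m V d g t Q : ℕ} (h : Cen m V) (hV : 2 ^ g ≤ V) (hd : 1 ≤ d) (hd2 : d ≤ 2) (hg : 1 ≤ g) (hm : 0 < m)
    (hQ : d * m ≤ Q + 1)
    (ht : t ∣ d * (g * (V * (V ^ 2 - 1)))) : t ^ 2 ≤ 256 * (Q + 2) ^ 7 := by
  have hV2 : 2 ≤ V := le_trans (by
    calc 2 = 2 ^ 1 := rfl
      _ ≤ 2 ^ g := Nat.pow_le_pow_right (by norm_num) hg) hV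
  have h1 := caseA hV2 hd hg ht
  have h2 := h.le hm
  have h3 := sq_le_two hV
  have h4 : t ^ 2 ≤ (d * g * V ^ 3) ^ 2 := Nat.pow_le_pow_left h1 2
  have h5 : (d * g * V ^ 3) ^ 2 = d ^ 2 * g ^ 2 * V ^ 6 := by ring
  rw [h5] at h4
  have h6 : d ^ 2 * g ^ 2 * V ^ 6 ≤ d ^ 2 * (2 * V) * V ^ 6 :=
    Nat.mul_le_mul_right _ (Nat.mul_le_mul_left _ h3)
  refine h4.trans (h6.trans ?_)
  interval_cases d
  · have h7 : V ≤ 2 * (Q + 2) := by omega
    calc 1 ^ 2 * (2 * V) * V ^ 6 = 2 * V ^ 7 := by ring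
      _ ≤ 2 * (2 * (Q + 2)) ^ 7 := Nat.mul_le_mul_left _ (Nat.pow_le_pow_left h7 7)
      _ = 256 * (Q + 2) ^ 7 := by ring
  · have h7 : V ≤ Q + 2 := by omega
    calc 2 ^ 2 * (2 * V) * V ^ 6 = 8 * V ^ 7 := by ring
      _ ≤ 8 * (Q + 2) ^ 7 := Nat.mul_le_mul_left _ (Nat.pow_le_pow_left h7 7)
      _ ≤ 256 * (Q + 2) ^ 7 := Nat.mul_le_mul_right _ (by norm_num)

/-! ### lower bounds -/

theorem AA_succ (n q : ℕ) : AA (n + 1) q = AA n q * (q ^ (2 * (n + 1)) - 1) := by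
  rw [AA, prod_range_succ]; rfl

/-- `2 AA(n, q) ≥ q^{n (n + 1)}` -/
theorem AA_ge {q : ℕ} (hq : 2 ≤ q) {n : ℕ} (hn : 1 ≤ n) : q ^ (n * (n + 1)) ≤ 2 * AA n q := by
  have key : q ^ (n * (n + 1)) * (q ^ (2 * n) + 1) ≤ 2 * AA n q * q ^ (2 * n) := by
    induction n, hn using Nat.le_induction with
    | base =>
      have h1 : AA 1 q = q ^ 2 - 1 := by rw [AA, prod_range_one]
      rw [h1]
      obtain ⟨x, hx⟩ : ∃ x, q ^ 2 = x + 4 := ⟨q ^ 2 - 4, by have := Nat.pow_le_pow_left hq 2; omega⟩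
      have e1 : q ^ (1 * (1 + 1)) = x + 4 := by rw [← hx]
      have e2 : q ^ (2 * 1) = x + 4 := by rw [← hx]
      rw [e1, show x + 4 - 1 = x + 3 by omega]
      nlinarith
    | succ k hk ih =>
      rw [AA_succ]
      set A := AA k q
      set B := q ^ (k * (k + 1)) with hB
      obtain ⟨x, hx⟩ : ∃ x, q ^ (2 * k) = x + 4 := by
        refine ⟨q ^ (2 * k) - 4, ?_⟩
        have h2 : 2 ^ 2 ≤ q ^ (2 * k) := le_trans (Nat.pow_le_pow_left hq 2) (Nat.pow_le_pow_right (by omega) (by omega))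
        omega
      obtain ⟨y, hy⟩ : ∃ y, q ^ 2 = y + 4 := ⟨q ^ 2 - 4, by have := Nat.pow_le_pow_left hq 2; omega⟩
      have e1 : q ^ (2 * (k + 1)) = (x + 4) * (y + 4) := by rw [← hx, ← hy, ← pow_add]; congr 1
      have e2 : q ^ ((k + 1) * (k + 1 + 1)) = B * ((x + 4) * (y + 4)) := by
        rw [← e1, hB, ← pow_add]; congr 1; ring
      rw [e2, e1]
      rw [hx] at ih
      obtain ⟨z, hz⟩ : ∃ z, (x + 4) * (y + 4) = z + 1 := ⟨(x + 4) * (y + 4) - 1, by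
        have : 0 < (x + 4) * (y + 4) := by positivity
        omega⟩
      rw [hz, Nat.add_sub_cancel]
      -- B (x+5) ≤ 2 A (x+4);  want B (z+1) (z+2) ≤ 2 (A z) (z+1)
      have h3 : B * (z + 2) ≤ 2 * A * z := by
        have h4 : B * (x + 5) * z ≤ 2 * A * (x + 4) * z := Nat.mul_le_mul_right _ ih
        have h5 : B * (z + 2) * (x + 4) ≤ B * (x + 5) * z := by
          rw [mul_assoc, mul_assoc]
          apply Nat.mul_le_mul_left
          nlinarith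
        have h6 : B * (z + 2) * (x + 4) ≤ 2 * A * z * (x + 4) := by
          refine h5.trans (h4.trans (le_of_eq ?_)); ring
        exact Nat.le_of_mul_le_mul_right h6 (by omega)
      calc B * (z + 1) * (z + 1 + 1) = B * (z + 2) * (z + 1) := by ring
        _ ≤ 2 * A * z * (z + 1) := Nat.mul_le_mul_right _ h3
        _ = _ := by ring
  have h1 : q ^ (n * (n + 1)) * q ^ (2 * n) ≤ 2 * AA n q * q ^ (2 * n) :=
    le_trans (Nat.mul_le_mul_left _ (by omega)) key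
  exact Nat.le_of_mul_le_mul_right h1 (pow_pos (by omega) _)

/-- the factors of odd index -/
def D1 (k q : ℕ) : ℕ := ∏ i ∈ range k, (q ^ (2 * (2 * i + 1)) - 1)

/-- the factors `q^i + 1` -/
def D2 (n q : ℕ) : ℕ := ∏ i ∈ range n, (q ^ (i + 1) + 1)

theorem D1_succ (k q : ℕ) : D1 (k + 1) q = D1 k q * (q ^ (2 * (2 * k + 1)) - 1) := by
  rw [D1, prod_range_succ]; rfl

theorem D1_dvd (k q : ℕ) : D1 k q ∣ AA (2 * k) q := by
  induction k with
  | zero => simp [D1]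
  | succ k ih =>
    rw [D1_succ, show 2 * (k + 1) = 2 * k + 1 + 1 by ring, AA_succ, AA_succ]
    exact Dvd.dvd.mul_right (Nat.mul_dvd_mul ih dvd_rfl) _

theorem D2_dvd {q : ℕ} (hq : 1 ≤ q) (n : ℕ) : D2 n q ∣ AA n q := by
  rw [D2, AA]
  apply prod_dvd_prod_of_dvd
  intro i _
  have h1 : q ^ (2 * (i + 1)) = (q ^ (i + 1)) ^ 2 := by rw [← pow_mul, mul_comm]
  rw [h1, sq_sub (Nat.one_le_pow _ _ hq)]
  exact Dvd.intro_left _ rfl

theorem D1_ge {q : ℕ} (hq : 2 ≤ q) {k : ℕ} (hk : 1 ≤ k) : q ^ (2 * k * k) ≤ 2 * D1 k q := by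
  have key : q ^ (2 * k * k) * (q ^ (4 * k) + 1) ≤ 2 * D1 k q * q ^ (4 * k) := by
    induction k, hk using Nat.le_induction with
    | base =>
      have h1 : D1 1 q = q ^ 2 - 1 := by rw [D1, prod_range_one]
      rw [h1]
      obtain ⟨x, hx⟩ : ∃ x, q ^ 2 = x + 4 := ⟨q ^ 2 - 4, by have := Nat.pow_le_pow_left hq 2; omega⟩
      have e1 : q ^ (2 * 1 * 1) = x + 4 := by rw [← hx]
      have e2 : q ^ (4 * 1) = (x + 4) ^ 2 := by rw [← hx, ← pow_mul]
      rw [e1, e2, show x + 4 - 1 = x + 3 by omega]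
      nlinarith [Nat.zero_le (x ^ 3)]
    | succ k hk ih =>
      rw [D1_succ]
      set A := D1 k q
      set B := q ^ (2 * k * k) with hB
      obtain ⟨w, hw⟩ : ∃ w, q ^ (4 * k) = w := ⟨_, rfl⟩
      obtain ⟨y, hy⟩ : ∃ y, q ^ 2 = y + 4 := ⟨q ^ 2 - 4, by have := Nat.pow_le_pow_left hq 2; omega⟩
      have hw1 : 1 ≤ w := by rw [← hw]; exact Nat.one_le_pow _ _ (by omega)
      have hw4 : y + 4 ≤ w := by rw [← hw, ← hy]; exact Nat.pow_le_pow_right (by omega) (by omega)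
      have e1 : q ^ (2 * (2 * k + 1)) = w * (y + 4) := by rw [← hw, ← hy, ← pow_add]; congr 1; ring
      have e2 : q ^ (2 * (k + 1) * (k + 1)) = B * (w * (y + 4)) := by
        rw [← e1, hB, ← pow_add]; congr 1; ring
      have e3 : q ^ (4 * (k + 1)) = w * (y + 4) ^ 2 := by
        rw [← hw, ← hy, ← pow_mul, ← pow_add]; congr 1
      rw [e2, e1, e3]
      rw [hw] at ih
      obtain ⟨z, hz⟩ : ∃ z, w * (y + 4) = z + 1 := ⟨w * (y + 4) - 1, by
        have : 0 < w * (y + 4) := by positivity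
        omega⟩
      -- B (w+1) ≤ 2 A w;  want B (z+1) (w (y+4)^2 + 1) ≤ 2 (A z) (w (y+4)^2)
      have h7 : w * (y + 4) ^ 2 = (z + 1) * (y + 4) := by rw [← hz]; ring
      rw [h7, hz, Nat.add_sub_cancel]
      have h3 : B * ((z + 1) * (y + 4) + 1) ≤ 2 * A * z * (y + 4) := by
        have h4 : B * (w + 1) * (z * (y + 4)) ≤ 2 * A * w * (z * (y + 4)) := Nat.mul_le_mul_right _ ih
        have h5 : B * ((z + 1) * (y + 4) + 1) * w ≤ B * (w + 1) * (z * (y + 4)) := by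
          rw [mul_assoc, mul_assoc]
          apply Nat.mul_le_mul_left
          have h8 : w + (y + 4) * w ≤ z * (y + 4) := by
            have h9 : z = w * (y + 4) - 1 := by omega
            rw [h9, Nat.sub_mul, one_mul]
            have h10 : w * (y + 4) * (y + 4) = w * ((y + 4) * (y + 4)) := by ring
            have h11 : w + (y + 4) * w + (y + 4) ≤ w * ((y + 4) * (y + 4)) := by nlinarith
            rw [h10]; omega
          nlinarith
        have h6 : B * ((z + 1) * (y + 4) + 1) * w ≤ 2 * A * z * (y + 4) * w := by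
          refine h5.trans (h4.trans (le_of_eq ?_)); ring
        exact Nat.le_of_mul_le_mul_right h6 (by omega)
      calc B * (z + 1) * ((z + 1) * (y + 4) + 1) = B * ((z + 1) * (y + 4) + 1) * (z + 1) := by ring
        _ ≤ 2 * A * z * (y + 4) * (z + 1) := Nat.mul_le_mul_right _ h3
        _ = _ := by ring
  have h1 : q ^ (2 * k * k) * q ^ (4 * k) ≤ 2 * D1 k q * q ^ (4 * k) :=
    le_trans (Nat.mul_le_mul_left _ (by omega)) key
  exact Nat.le_of_mul_le_mul_right h1 (pow_pos (by omega) _)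

theorem D2_ge {q : ℕ} (hq : 1 ≤ q) (n : ℕ) : (q ^ n) ^ (n + 1) ≤ (D2 n q) ^ 2 := by
  induction n with
  | zero => simp [D2]
  | succ n ih =>
    have h1 : D2 (n + 1) q = D2 n q * (q ^ (n + 1) + 1) := by rw [D2, prod_range_succ]; rfl
    rw [h1, mul_pow]
    have h2 : (q ^ (n + 1)) ^ (n + 1 + 1) = (q ^ n) ^ (n + 1) * (q ^ (n + 1)) ^ 2 := by
      rw [← pow_mul, ← pow_mul, ← pow_mul, ← pow_add]; congr 1; ring
    rw [h2]
    exact Nat.mul_le_mul ih (Nat.pow_le_pow_left (by omega) 2)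

/-! ### coprimality -/

theorem neg_one_ne {l : ℕ} [Fact l.Prime] (hl2 : l ≠ 2) : (-1 : ZMod l) ≠ 1 := by
  intro h
  have h5 : ((2 : ℕ) : ZMod l) = 0 := by
    push_cast
    have : (1 : ZMod l) + 1 = 0 := by
      nth_rewrite 1 [← h]
      ring
    rw [← this]; norm_num
  rw [ZMod.natCast_eq_zero_iff] at h5
  exact hl2 ((Nat.prime_dvd_prime_iff_eq Fact.out Nat.prime_two).1 h5)

theorem D1_coprime {k q m : ℕ} (hq : 1 ≤ q) (hm : m ∣ q ^ (2 * k) + 1) (hodd : Odd m) : Nat.Coprime (D1 k q) m := by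
  rw [D1]
  apply Nat.Coprime.prod_left
  intro i _
  apply Nat.Coprime.symm
  apply Nat.coprime_of_dvd
  intro l hl hlm hld
  have := Fact.mk hl
  have hl2 : l ≠ 2 := by
    rintro rfl
    exact Nat.not_even_iff_odd.2 hodd (even_iff_two_dvd.2 hlm)
  have h1 : ((q ^ (2 * k) + 1 : ℕ) : ZMod l) = 0 := (ZMod.natCast_eq_zero_iff _ _).2 (hlm.trans hm)
  have h2 : (((q : ℕ) : ZMod l) ^ 2) ^ k = -1 := by
    push_cast at h1
    rw [← pow_mul]
    exact eq_neg_of_add_eq_zero_left h1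
  have h3 : ((q ^ (2 * (2 * i + 1)) - 1 : ℕ) : ZMod l) = 0 := (ZMod.natCast_eq_zero_iff _ _).2 hld
  have h4 : (((q : ℕ) : ZMod l) ^ 2) ^ (2 * i + 1) = 1 := by
    rw [Nat.cast_sub (Nat.one_le_pow _ _ (by omega)), Nat.cast_pow, Nat.cast_one, sub_eq_zero] at h3
    rw [← pow_mul]
    exact h3
  have h5 : ((((q : ℕ) : ZMod l) ^ 2) ^ k) ^ (2 * i + 1) = 1 := by
    rw [← pow_mul, mul_comm k, pow_mul, h4, one_pow]
  rw [h2, Odd.neg_one_pow ⟨i, rfl⟩] at h5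
  exact neg_one_ne hl2 h5

theorem D2_coprime {n q m : ℕ} (hq : 1 ≤ q) (hn : Odd n) (hm : m ∣ q ^ n - 1) (hodd : Odd m) :
    Nat.Coprime (D2 n q) m := by
  rw [D2]
  apply Nat.Coprime.prod_left
  intro i _
  apply Nat.Coprime.symm
  apply Nat.coprime_of_dvd
  intro l hl hlm hld
  have := Fact.mk hl
  have hl2 : l ≠ 2 := by
    rintro rfl
    exact Nat.not_even_iff_odd.2 hodd (even_iff_two_dvd.2 hlm)
  have h1 : ((q ^ n - 1 : ℕ) : ZMod l) = 0 := (ZMod.natCast_eq_zero_iff _ _).2 (hlm.trans hm)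
  have h2 : ((q : ℕ) : ZMod l) ^ n = 1 := by
    rw [Nat.cast_sub (Nat.one_le_pow _ _ (by omega)), Nat.cast_pow, Nat.cast_one, sub_eq_zero] at h1
    exact h1
  have h3 : ((q ^ (i + 1) + 1 : ℕ) : ZMod l) = 0 := (ZMod.natCast_eq_zero_iff _ _).2 hld
  have h4 : ((q : ℕ) : ZMod l) ^ (i + 1) = -1 := by
    push_cast at h3
    exact eq_neg_of_add_eq_zero_left h3
  have h5 : (((q : ℕ) : ZMod l) ^ (i + 1)) ^ n = 1 := by
    rw [← pow_mul, mul_comm, pow_mul, h2, one_pow]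
  rw [h4, hn.neg_one_pow] at h5
  exact neg_one_ne hl2 h5

end Cfsg.Agent.H403.CS
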