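import Mathlib
import Cfsg.Agent.H403.CS.TwoCent
import Cfsg.Agent.H403.CS.TwoNum
import Cfsg.Agent.H364.SpTwo
import Cfsg.Agent.H934.OutB
import Cfsg.Agent.S0243
import Cfsg.Agent.S0813

/-!
# S3677, task E1: `S` is not `L₂(V)` (helper403)
-/

set_option autoImplicit false

namespace Cfsg.Agent.H403.CS

open Subgroup Cfsg Cfsg.Agent.OrdDiv Cfsg.Agent.H902 Cfsg.Agent.H221.CS
open Cfsg.Agent.H902.Art Cfsg.Agent.H902.Lte Cfsg.Agent.H364.SpVal Cfsg.Agent.H364.SpSmall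

universe u

/-! ### the outer automorphism group -/

theorem card_pgl {F : Type} [Field F] [Fintype F] {n : ℕ} (hn : 2 ≤ n) : Nat.card (Matrix.ProjGenLinGroup (Fin n) F) =
    Nat.gcd n (Fintype.card F - 1) * Nat.card (Matrix.ProjectiveSpecialLinearGroup (Fin n) F) := by
  classical
  have : NeZero n := ⟨by omega⟩
  have h1 := Cfsg.Agent.S0243.result (F := F) rfl n hn
  have h2 : Nat.card (Matrix.ProjGenLinGroup (Fin n) F) * (Fintype.card F - 1) = Nat.card (Matrix.GeneralLinearGroup (Fin n) F) :=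
    Cfsg.Agent.ClassicalGeometry.PSL2Basic.card_PGL_mul (Fin n) F
  rw [Matrix.card_GL_field, ← h1] at h2
  have h3 : 0 < Fintype.card F - 1 := by
    have := Fintype.one_lt_card (α := F)
    omega
  have h4 : Nat.card (Matrix.ProjGenLinGroup (Fin n) F) * (Fintype.card F - 1) =
    (Nat.gcd n (Fintype.card F - 1) * Nat.card (Matrix.ProjectiveSpecialLinearGroup (Fin n) F)) *
      (Fintype.card F - 1) := by
    rw [h2]; ring
  exact Nat.eq_of_mul_eq_mul_right h3 h4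

theorem mulaut_congr {G H : Type*} [Group G] [Group H] (e : G ≃* H) : Nat.card (MulAut G) = Nat.card (MulAut H) :=
  Nat.card_congr (MulAut.congr e).toEquiv

/-- `|Out L₂(v^g)| = gcd (2, v^g - 1) g` -/
theorem card_out_two {S : Type u} [Group S] [Finite S] [IsSimpleGroup S] (hna : ¬ ∀ a b : S, a * b = b * a)
    {v g : ℕ} (hX : Art.Real (.L 2) v g (Nat.card S)) (h : OrdDiv.Real (.psl 2 (v ^ g)) S) :
    Nat.card (Cfsg.Out S) = Art.dd (.L 2) (v ^ g) * g := by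
  have hna' : ¬ IsMulCommutative S := fun hc => hna fun a b => hc.is_comm.comm a b
  obtain ⟨hp, hf, hok, -⟩ := hX
  have hpf := Fact.mk hp
  obtain ⟨F, _, _, hF, ⟨e⟩⟩ := h
  have h1 := Cfsg.Agent.S0813.result v g hf hF 2 hok.1 hok.2
  rw [card_pgl hok.1, hF] at h1
  have h2 : Nat.card (MulAut S) = (Nat.gcd 2 (v ^ g - 1) * g) * Nat.card S := by
    rw [mulaut_congr e, h1, Nat.card_congr e.toEquiv, if_pos rfl]; ring
  exact Cfsg.Agent.H934.OutB.card_out_of_aut hna' h2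

variable {n p f M κ : ℕ} {Γ : Type u} [Group Γ] [Finite Γ] {S : Subgroup Γ}

theorem cen (h : Dat n p f M κ Γ S) {V : ℕ} (hr : OrdDiv.Real (.psl 2 V) S) : Cen (mm n (p ^ f)) V := by
  obtain ⟨r, hrp, hro, hrS⟩ := h.dvd
  have := Fact.mk hrp
  obtain ⟨y, hy⟩ := exists_prime_orderOf_dvd_card' r hrS
  have hy1 : y ≠ 1 := by
    rintro rfl
    rw [orderOf_one] at hy
    exact hrp.one_lt.ne hy
  have hyo : orderOf (y : Γ) = r := by rw [← hy]; exact Subgroup.orderOf_coe y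
  have h1 := h.tor r hrp hro (y : Γ) hyo
  have h2 : Nat.card (centralizer ({y} : Set S)) ∣ Nat.card (centralizer ({(y : Γ)} : Set Γ)) := by
    let φ : centralizer ({y} : Set S) →* centralizer ({(y : Γ)} : Set Γ) :=
      { toFun := fun x => ⟨((x : S) : Γ), by
          have h := Subgroup.mem_centralizer_singleton_iff.1 x.2
          rw [Subgroup.mem_centralizer_singleton_iff]
          have h' := congrArg (Subtype.val) h
          exact h'⟩
        map_one' := rfl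
        map_mul' := fun _ _ => rfl }
    apply Subgroup.card_dvd_of_injective φ
    intro a b hab
    apply Subtype.ext
    apply Subtype.ext
    exact congrArg (fun z : centralizer ({(y : Γ)} : Set Γ) => (z : Γ)) hab
  have h3 := cent_real hr hy1
  have hodd := mm_odd h.q_ge (by have := h.hn; omega : 1 ≤ n)
  refine ⟨Nat.card (centralizer ({y} : Set S)), h2.trans h1, ?_⟩
  rcases h3 with h3 | h3 | h3 | h3
  · exact Or.inl h3
  · exact Or.inr (Or.inl h3)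
  · exact Or.inr (Or.inr h3)
  · exfalso
    exact Nat.not_even_iff_odd.2 hodd (even_iff_two_dvd.2 (h3.two_dvd.trans (h2.trans h1)))

/-- everything numerical -/
structure TwoD (n p f M κ v g : ℕ) : Prop where
  hn : 3 ≤ n
  hY : Real (.C n) p f M
  hv : v.Prime
  hg : 1 ≤ g
  hM : κ ∣ M
  cen : Cen (mm n (p ^ f)) (v ^ g)
  dvd : ∀ t, t ∣ AA n (p ^ f) → Nat.Coprime t κ →
    t ∣ Nat.gcd 2 (p ^ f - 1) * (g * (v ^ g * ((v ^ g) ^ 2 - 1)))
  kap : ∀ l : ℕ, l.Prime → l ∣ κ → l = p ∨ (5 ≤ n ∧ p ^ f = 2 ∧ l = 3) ∨ (5 ≤ n ∧ p ^ f = 3 ∧ l = 2) ∨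
    (6 ≤ n ∧ (Even n ∨ p ^ f ≤ 3) ∧ l ∣ mm n (p ^ f) ∧ orderOf ((p ^ f : ℕ) : ZMod l) ≠ cl n (p ^ f))

theorem twoD (h : Dat n p f M κ Γ S) {v g : ℕ} (hX : Art.Real (.L 2) v g (Nat.card S))
    (hr : OrdDiv.Real (.psl 2 (v ^ g)) S) : TwoD n p f M κ v g where
  hn := h.hn
  hY := h.hY
  hv := hX.hp
  hg := hX.hf
  hM := h.kap_dvd
  cen := cen h hr
  kap := h.kap
  dvd t ht hco := by
    have := h.simple
    have hI : S.index ∣ Art.dd (.L 2) (v ^ g) * g := by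
      rw [← card_out_two h.nonab hX hr]
      exact h.index_dvd
    have h1 := h.hY.eq
    have h3 : dd (.C n) (p ^ f) = Nat.gcd 2 (p ^ f - 1) := rfl
    have h4 : t ∣ dd (.C n) (p ^ f) * M := by
      rw [h1]
      exact Dvd.dvd.mul_left ht _
    rw [h3, ← h.card_eq] at h4
    have h5 : t ∣ Nat.gcd 2 (p ^ f - 1) * (Nat.card S * S.index) := by
      apply hco.dvd_of_dvd_mul_left
      rw [show κ * (Nat.gcd 2 (p ^ f - 1) * (Nat.card S * S.index)) =
        Nat.gcd 2 (p ^ f - 1) * (κ * (Nat.card S * S.index)) by ring]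
      exact h4
    refine h5.trans (Nat.mul_dvd_mul_left _ ?_)
    have h6 := Cfsg.Agent.H364.SpTwo.eq_L2 hX
    rw [← h6]
    calc Nat.card S * S.index ∣ Nat.card S * (dd (.L 2) (v ^ g) * g) := Nat.mul_dvd_mul_left _ hI
      _ = g * (dd (.L 2) (v ^ g) * Nat.card S) := by ring

namespace TwoD

variable {v g : ℕ}

theorem q_ge (h : TwoD n p f M κ v g) : 2 ≤ p ^ f := h.hY.q_ge

theorem V_ge (h : TwoD n p f M κ v g) : 2 ^ g ≤ v ^ g := Nat.pow_le_pow_left h.hv.two_le g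

theorem mpos (h : TwoD n p f M κ v g) : 0 < mm n (p ^ f) := mm_pos h.q_ge (by have := h.hn; omega)

theorem d_pos {q : ℕ} : 1 ≤ Nat.gcd 2 (q - 1) := Nat.gcd_pos_of_pos_left _ (by norm_num)

theorem d_le {q : ℕ} : Nat.gcd 2 (q - 1) ≤ 2 :=
  Nat.le_of_dvd (by norm_num) (Nat.gcd_dvd_left _ _)

theorem dm_le (h : TwoD n p f M κ v g) : Nat.gcd 2 (p ^ f - 1) * mm n (p ^ f) ≤ (p ^ f) ^ n + 1 := by
  rw [mm_mul h.q_ge (by have := h.hn; omega)]
  split_ifs <;> omega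

theorem cop_p (h : TwoD n p f M κ v g) {t : ℕ} (ht : t ∣ AA n (p ^ f)) : ¬ p ∣ t := fun hpt =>
  not_dvd_of_AA h.q_ge h.hY.hp (hpt.trans ht) (dvd_pow_self p (by have := h.hY.hf; omega))

/-- coprimality to `κ` -/
theorem cop (h : TwoD n p f M κ v g) {t : ℕ} (ht : t ∣ AA n (p ^ f)) (h3 : 5 ≤ n → p ^ f = 2 → ¬ 3 ∣ t)
    (h2 : 5 ≤ n → p ^ f = 3 → ¬ 2 ∣ t) (hm : 6 ≤ n → (Even n ∨ p ^ f ≤ 3) → Nat.Coprime t (mm n (p ^ f))) :
    Nat.Coprime t κ := by
  apply Nat.Coprime.symm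
  apply Nat.coprime_of_dvd
  intro l hl hlk hlt
  rcases h.kap l hl hlk with h5 | h5 | h5 | h5
  · subst h5
    exact h.cop_p ht hlt
  · obtain ⟨h6, h7, rfl⟩ := h5
    exact h3 h6 h7 hlt
  · obtain ⟨h6, h7, rfl⟩ := h5
    exact h2 h6 h7 hlt
  · exact Nat.Prime.not_coprime_iff_dvd.2 ⟨l, hl, hlt, h5.2.2.1⟩ (hm h5.1 h5.2.1)

theorem A (h : TwoD n p f M κ v g) {t : ℕ} (ht : t ∣ AA n (p ^ f)) (hco : Nat.Coprime t κ) :
    t ^ 2 ≤ 256 * ((p ^ f) ^ n + 2) ^ 7 :=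
  boundA h.cen h.V_ge d_pos d_le h.hg h.mpos h.dm_le (h.dvd t ht hco)

theorem B (h : TwoD n p f M κ v g) {t : ℕ} (ht : t ∣ AA n (p ^ f)) (hco : Nat.Coprime t κ)
    (hm : Nat.Coprime t (mm n (p ^ f))) : t ^ 2 ≤ 256 * ((p ^ f) ^ n + 3) ^ 5 :=
  boundB h.cen h.V_ge d_pos d_le h.hg h.mpos hm h.dm_le (h.dvd t ht hco)

/-- small numbers, case A -/
theorem smallA (h : TwoD n p f M κ v g) {t m B G : ℕ} (ht : t ∣ AA n (p ^ f)) (hco : Nat.Coprime t κ)
    (hm : mm n (p ^ f) = m) (hB : 2 * m + 1 ≤ B) (hG : B < 2 ^ (G + 1)) (hlt : 2 * G * B ^ 3 < t) : False := by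
  have h1 := h.cen.le h.mpos
  have hg : g ≤ G := by
    by_contra hcon
    have h2 : 2 ^ (G + 1) ≤ 2 ^ g := Nat.pow_le_pow_right (by norm_num) (by omega)
    have h3 := h.V_ge
    omega
  have h4 := caseA (by
    have h5 := h.V_ge
    have h6 : 2 ^ 1 ≤ 2 ^ g := Nat.pow_le_pow_right (by norm_num) h.hg
    omega) d_pos h.hg (h.dvd t ht hco)
  have h7 : Nat.gcd 2 (p ^ f - 1) * g * (v ^ g) ^ 3 ≤ 2 * G * B ^ 3 :=
    Nat.mul_le_mul (Nat.mul_le_mul d_le hg) (Nat.pow_le_pow_left (by omega) 3)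
  omega

theorem smallB (h : TwoD n p f M κ v g) {t m B G : ℕ} (ht : t ∣ AA n (p ^ f)) (hco : Nat.Coprime t κ)
    (hcm : Nat.Coprime t (mm n (p ^ f)))
    (hm : mm n (p ^ f) = m) (hB : 2 * m + 1 ≤ B) (hG : B < 2 ^ (G + 1)) (hlt : 2 * 2 * G * (B * (B + 1)) < t) :
    False := by
  have h1 := h.cen.le h.mpos
  have hg : g ≤ G := by
    by_contra hcon
    have h2 : 2 ^ (G + 1) ≤ 2 ^ g := Nat.pow_le_pow_right (by norm_num) (by omega)
    have h3 := h.V_ge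
    omega
  have h4 := caseB h.cen (by
    have h5 := h.V_ge
    have h6 : 2 ^ 1 ≤ 2 ^ g := Nat.pow_le_pow_right (by norm_num) h.hg
    omega) d_pos h.hg hcm (h.dvd t ht hco)
  have h7 : 2 * Nat.gcd 2 (p ^ f - 1) * g * (v ^ g * (v ^ g + 1)) ≤ 2 * 2 * G * (B * (B + 1)) :=
    Nat.mul_le_mul (Nat.mul_le_mul (Nat.mul_le_mul_left _ d_le) hg) (Nat.mul_le_mul (by omega) (by omega))
  omega

/-- enumeration -/
theorem enum (h : TwoD n p f M κ v g) {t m B G d : ℕ} (ht : t ∣ AA n (p ^ f)) (hco : Nat.Coprime t κ)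
    (hm : mm n (p ^ f) = m) (hd : Nat.gcd 2 (p ^ f - 1) = d) (hB : 2 * m + 1 ≤ B) (hG : B < 2 ^ (G + 1))
    (hlt : ∀ V ∈ List.range (B + 1), ∀ g ∈ List.range (G + 1), V < 2 ∨ g = 0 ∨
      (d * (g * (V * (V ^ 2 - 1)))) % t ≠ 0) :
    False := by
  have h1 := h.cen.le h.mpos
  have hg : g ≤ G := by
    by_contra hcon
    have h2 : 2 ^ (G + 1) ≤ 2 ^ g := Nat.pow_le_pow_right (by norm_num) (by omega)
    have h3 := h.V_ge
    omega
  have h8 := h.hg
  have h5 := h.V_ge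
  have h6 : 2 ^ 1 ≤ 2 ^ g := Nat.pow_le_pow_right (by norm_num) h.hg
  rcases hlt (v ^ g) (List.mem_range.2 (by omega)) g (List.mem_range.2 (by omega)) with h7 | h7 | h7
  · omega
  · omega
  · apply h7
    rw [← hd]
    exact Nat.mod_eq_zero_of_dvd (h.dvd t ht hco)

/-- the exceptional prime removed -/
theorem strip_dvd {e D A : ℕ} (he : e.Prime) (hD : D ∣ A) (hA : A ≠ 0) :
    ordCompl[e] D ∣ A ∧ ¬ e ∣ ordCompl[e] D ∧ D ≤ P e A * ordCompl[e] D := by
  have hD0 : D ≠ 0 := fun h0 => hA (by rw [h0] at hD; exact Nat.eq_zero_of_zero_dvd hD)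
  refine ⟨(Nat.ordCompl_dvd D e).trans hD, Nat.not_dvd_ordCompl he hD0, ?_⟩
  have h1 : e ^ D.factorization e * ordCompl[e] D = D := Nat.ordProj_mul_ordCompl_eq_self D e
  have h2 : e ^ D.factorization e ≤ P e A := P_mono he hA hD
  calc D = e ^ D.factorization e * ordCompl[e] D := h1.symm
    _ ≤ _ := Nat.mul_le_mul_right _ h2

/-! ### large parameters -/

theorem rank_four (h : TwoD 4 p f M κ v g) : False := by
  have hco : Nat.Coprime (AA 4 (p ^ f)) κ :=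
    h.cop dvd_rfl (fun h => by omega) (fun h => by omega) (fun h => by omega)
  have h1 := h.A dvd_rfl hco
  have h2 := AA_ge h.q_ge (n := 4) (by norm_num)
  have h3 : (p ^ f) ^ (4 * (4 + 1)) = ((p ^ f) ^ 4) ^ 5 := by rw [← pow_mul (p ^ f) 4 5]
  rw [h3] at h2
  have h4 : 16 ≤ (p ^ f) ^ 4 := by
    calc 16 = 2 ^ 4 := by norm_num
      _ ≤ _ := Nat.pow_le_pow_left h.q_ge 4
  generalize (p ^ f) ^ 4 = Q at *
  have h5 : (Q ^ 5) ^ 2 ≤ (2 * AA 4 (p ^ f)) ^ 2 := Nat.pow_le_pow_left h2 2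
  have h6 : (8 * (Q + 2)) ^ 7 ≤ (9 * Q) ^ 7 := Nat.pow_le_pow_left (by omega) 7
  rw [mul_pow] at h6 h5
  rw [mul_pow 9] at h6
  have h7 : 8 ^ 7 * (Q ^ 5) ^ 2 ≤ 1024 * 9 ^ 7 * Q ^ 7 := by
    calc 8 ^ 7 * (Q ^ 5) ^ 2 ≤ 8 ^ 7 * (1024 * (Q + 2) ^ 7) := Nat.mul_le_mul_left _ (by omega)
      _ = 1024 * (8 ^ 7 * (Q + 2) ^ 7) := by ring
      _ ≤ 1024 * (9 ^ 7 * Q ^ 7) := Nat.mul_le_mul_left _ h6
      _ = _ := by ring
  have h8 : 8 ^ 7 * Q ^ 3 * Q ^ 7 ≤ 1024 * 9 ^ 7 * Q ^ 7 := by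
    calc 8 ^ 7 * Q ^ 3 * Q ^ 7 = 8 ^ 7 * (Q ^ 5) ^ 2 := by ring
      _ ≤ _ := h7
  have h9 := Nat.le_of_mul_le_mul_right h8 (by positivity)
  have h10 : 16 ^ 3 ≤ Q ^ 3 := Nat.pow_le_pow_left h4 3
  norm_num at h9 h10
  omega

theorem odd_large (h : TwoD n p f M κ v g) (hn : 5 ≤ n) (ho : ¬ Even n) (hq : 4 ≤ p ^ f) : False := by
  have hco : Nat.Coprime (AA n (p ^ f)) κ :=
    h.cop dvd_rfl (fun _ h => by omega) (fun _ h => by omega) (fun _ h => by
      rcases h with h | h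
      · exact absurd h ho
      · omega)
  have h1 := h.A dvd_rfl hco
  have h2 := AA_ge h.q_ge (n := n) (by omega)
  rw [pow_mul] at h2
  have h4 : 1024 ≤ (p ^ f) ^ n := by
    calc 1024 = 4 ^ 5 := by norm_num
      _ ≤ 4 ^ n := Nat.pow_le_pow_right (by norm_num) hn
      _ ≤ _ := Nat.pow_le_pow_left hq n
  generalize (p ^ f) ^ n = Q at *
  have h0 : Q ^ 6 ≤ Q ^ (n + 1) := Nat.pow_le_pow_right (by omega) (by omega)
  have h5 : (Q ^ 6) ^ 2 ≤ (2 * AA n (p ^ f)) ^ 2 := Nat.pow_le_pow_left (h0.trans h2) 2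
  have h6 : (Q + 2) ^ 7 ≤ (2 * Q) ^ 7 := Nat.pow_le_pow_left (by omega) 7
  rw [mul_pow] at h6 h5
  have h8 : Q ^ 5 * Q ^ 7 ≤ (1024 * 2 ^ 7) * Q ^ 7 := by
    calc Q ^ 5 * Q ^ 7 = (Q ^ 6) ^ 2 := by ring
      _ ≤ 1024 * (Q + 2) ^ 7 := by omega
      _ ≤ 1024 * (2 ^ 7 * Q ^ 7) := Nat.mul_le_mul_left _ h6
      _ = _ := by ring
  have h9 := Nat.le_of_mul_le_mul_right h8 (by positivity)
  have h10 : 1024 ^ 5 ≤ Q ^ 5 := Nat.pow_le_pow_left h4 5
  norm_num at h9 h10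
  omega

theorem mm_dvd_odd {n q : ℕ} (hq : 2 ≤ q) (hn : 1 ≤ n) (ho : ¬ Even n) (h3 : q ≤ 3) : mm n q ∣ q ^ n - 1 := by
  have h1 := mm_mul hq hn
  have h2 : ¬ (Even n ∨ q % 4 = 1) := by
    rintro (h | h)
    · exact ho h
    · omega
  rw [if_neg h2] at h1
  exact Dvd.intro_left _ h1

theorem even_large {k : ℕ} (h : TwoD (2 * k) p f M κ v g) (hk : 3 ≤ k) (hq : 4 ≤ p ^ f) : False := by
  have hev : Even (2 * k) := even_two_mul k
  have hcm : Nat.Coprime (D1 k (p ^ f)) (mm (2 * k) (p ^ f)) :=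
    D1_coprime (by omega) (mm_dvd_even h.q_ge (by omega) hev) (mm_odd h.q_ge (by omega))
  have hdv := D1_dvd k (p ^ f)
  have hco : Nat.Coprime (D1 k (p ^ f)) κ :=
    h.cop hdv (fun _ h => by omega) (fun _ h => by omega) (fun _ _ => hcm)
  have h1 := h.B hdv hco hcm
  have h2 := D1_ge h.q_ge (k := k) (by omega)
  rw [pow_mul] at h2
  have h4 : 4096 ≤ (p ^ f) ^ (2 * k) := by
    calc 4096 = 4 ^ 6 := by norm_num
      _ ≤ 4 ^ (2 * k) := Nat.pow_le_pow_right (by norm_num) (by omega)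
      _ ≤ _ := Nat.pow_le_pow_left hq _
  generalize (p ^ f) ^ (2 * k) = Q at *
  have h0 : Q ^ 3 ≤ Q ^ k := Nat.pow_le_pow_right (by omega) hk
  have h5 : (Q ^ 3) ^ 2 ≤ (2 * D1 k (p ^ f)) ^ 2 := Nat.pow_le_pow_left (h0.trans h2) 2
  have h6 : (8 * (Q + 3)) ^ 5 ≤ (9 * Q) ^ 5 := Nat.pow_le_pow_left (by omega) 5
  rw [mul_pow] at h6 h5
  rw [mul_pow 9] at h6
  have h8 : 8 ^ 5 * Q * Q ^ 5 ≤ (1024 * 9 ^ 5) * Q ^ 5 := by
    calc 8 ^ 5 * Q * Q ^ 5 = 8 ^ 5 * (Q ^ 3) ^ 2 := by ring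
      _ ≤ 8 ^ 5 * (1024 * (Q + 3) ^ 5) := Nat.mul_le_mul_left _ (by omega)
      _ = 1024 * (8 ^ 5 * (Q + 3) ^ 5) := by ring
      _ ≤ 1024 * (9 ^ 5 * Q ^ 5) := Nat.mul_le_mul_left _ h6
      _ = _ := by ring
  have h9 := Nat.le_of_mul_le_mul_right h8 (by positivity)
  norm_num at h9
  omega

/-- the exceptional prime -/
def ex (q : ℕ) : ℕ := if q = 2 then 3 else 2

theorem ex_prime (q : ℕ) : (ex q).Prime := by
  rw [ex]; split_ifs <;> norm_num

theorem ex_not {q : ℕ} (h : q = 2 ∨ q = 3) : ¬ ex q ∣ q := by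
  rcases h with rfl | rfl <;> decide

theorem odd_small (h : TwoD n p f M κ v g) (hn : 7 ≤ n) (ho : ¬ Even n) {q : ℕ} (hq : p ^ f = q) (h23 : q = 2 ∨ q = 3) :
    (q ^ n) ^ (n + 1) ≤ ((4 * (q + 1)) ^ n) ^ 2 * (256 * (q ^ n + 3) ^ 5) := by
  have hq2 : 2 ≤ q := by omega
  have hcm : Nat.Coprime (D2 n q) (mm n q) :=
    D2_coprime (by omega) (Nat.not_even_iff_odd.1 ho) (mm_dvd_odd hq2 (by omega) ho (by omega)) (mm_odd hq2 (by omega))
  obtain ⟨h1, h2, h3⟩ := strip_dvd (ex_prime q) (D2_dvd (by omega : 1 ≤ q) n) (AA_ne hq2)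
  have h4 : Nat.Coprime (ordCompl[ex q] (D2 n q)) (mm n q) := hcm.coprime_dvd_left (Nat.ordCompl_dvd _ _)
  have hge := D2_ge (q := q) (by omega) n
  have hP := P_le_gen (n := n) (ex_prime q) hq2 (ex_not h23) (by omega)
  generalize ordCompl[ex q] (D2 n q) = t at *
  rw [← hq] at h1 h4
  have hco : Nat.Coprime t κ := by
    refine h.cop h1 (fun _ h5 h6 => h2 ?_) (fun _ h5 h6 => h2 ?_) (fun _ _ => h4)
    · rw [ex, if_pos (by omega)]; exact h6
    · rw [ex, if_neg (by omega)]; exact h6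
  have h5 := h.B h1 hco h4
  rw [hq] at h5
  calc (q ^ n) ^ (n + 1) ≤ (D2 n q) ^ 2 := hge
    _ ≤ ((4 * (q + 1)) ^ n * t) ^ 2 := Nat.pow_le_pow_left (h3.trans (Nat.mul_le_mul_right _ hP)) 2
    _ = ((4 * (q + 1)) ^ n) ^ 2 * t ^ 2 := mul_pow _ _ _
    _ ≤ _ := Nat.mul_le_mul_left _ h5

theorem even_small {k : ℕ} (h : TwoD (2 * k) p f M κ v g) (hk : 3 ≤ k) {q : ℕ} (hq : p ^ f = q) (h23 : q = 2 ∨ q = 3) :
    (q ^ (2 * k)) ^ (2 * k) ≤ ((4 * (q + 1)) ^ (2 * k)) ^ 2 * (1024 * (q ^ (2 * k) + 3) ^ 5) := by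
  have hq2 : 2 ≤ q := by omega
  have hev : Even (2 * k) := even_two_mul k
  have hcm : Nat.Coprime (D1 k q) (mm (2 * k) q) :=
    D1_coprime (by omega) (mm_dvd_even hq2 (by omega) hev) (mm_odd hq2 (by omega))
  obtain ⟨h1, h2, h3⟩ := strip_dvd (ex_prime q) (D1_dvd k q) (AA_ne hq2)
  have h4 : Nat.Coprime (ordCompl[ex q] (D1 k q)) (mm (2 * k) q) := hcm.coprime_dvd_left (Nat.ordCompl_dvd _ _)
  have hge := D1_ge hq2 (k := k) (by omega)
  have hP := P_le_gen (n := 2 * k) (ex_prime q) hq2 (ex_not h23) (by omega)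
  generalize ordCompl[ex q] (D1 k q) = t at *
  rw [← hq] at h1 h4
  have hco : Nat.Coprime t κ := by
    refine h.cop h1 (fun _ h5 h6 => h2 ?_) (fun _ h5 h6 => h2 ?_) (fun _ _ => h4)
    · rw [ex, if_pos (by omega)]; exact h6
    · rw [ex, if_neg (by omega)]; exact h6
  have h5 := h.B h1 hco h4
  rw [hq] at h5
  calc (q ^ (2 * k)) ^ (2 * k) = (q ^ (2 * k * k)) ^ 2 := by rw [← pow_mul, ← pow_mul]; congr 1; ring
    _ ≤ (2 * D1 k q) ^ 2 := Nat.pow_le_pow_left hge 2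
    _ ≤ (2 * ((4 * (q + 1)) ^ (2 * k) * t)) ^ 2 :=
      Nat.pow_le_pow_left (Nat.mul_le_mul_left _ (h3.trans (Nat.mul_le_mul_right _ hP))) 2
    _ = 4 * ((4 * (q + 1)) ^ (2 * k)) ^ 2 * t ^ 2 := by ring
    _ ≤ 4 * ((4 * (q + 1)) ^ (2 * k)) ^ 2 * (256 * (q ^ (2 * k) + 3) ^ 5) := Nat.mul_le_mul_left _ h5
    _ = _ := by ring

/-- the inequality -/
theorem ineq {Q c C D n j : ℕ} (hQ : 8192 ≤ Q) (hQC : C * D ≤ Q ^ j) (hC : c = C) (hD : 2048 < D) (hj : j + 5 ≤ n)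
    (h : Q ^ n ≤ c * (1024 * (Q + 3) ^ 5)) : False := by
  subst hC
  have h1 : Q ^ (j + 5) ≤ Q ^ n := Nat.pow_le_pow_right (by omega) hj
  have h2 : (8192 * (Q + 3)) ^ 5 ≤ (8195 * Q) ^ 5 := Nat.pow_le_pow_left (by omega) 5
  rw [mul_pow, mul_pow 8195] at h2
  have h3 : (8192 ^ 5 * Q ^ j) * Q ^ 5 ≤ (c * 1024 * 8195 ^ 5) * Q ^ 5 := by
    calc (8192 ^ 5 * Q ^ j) * Q ^ 5 = 8192 ^ 5 * Q ^ (j + 5) := by rw [pow_add]; ring
      _ ≤ 8192 ^ 5 * (c * (1024 * (Q + 3) ^ 5)) := Nat.mul_le_mul_left _ (h1.trans h)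
      _ = c * 1024 * (8192 ^ 5 * (Q + 3) ^ 5) := by ring
      _ ≤ c * 1024 * (8195 ^ 5 * Q ^ 5) := Nat.mul_le_mul_left _ h2
      _ = _ := by ring
  have h4 := Nat.le_of_mul_le_mul_right h3 (by positivity)
  have h5 : 8192 ^ 5 * (c * D) ≤ c * 1024 * 8195 ^ 5 := le_trans (Nat.mul_le_mul_left _ hQC) h4
  rcases Nat.eq_zero_or_pos c with h0 | h0
  · rw [h0, zero_mul] at h
    have : 0 < Q ^ n := by positivity
    omega
  · have h6 : c * (8192 ^ 5 * D) ≤ c * (1024 * 8195 ^ 5) := by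
      calc c * (8192 ^ 5 * D) = 8192 ^ 5 * (c * D) := by ring
        _ ≤ _ := h5
        _ = _ := by ring
    have h7 := Nat.le_of_mul_le_mul_left h6 h0
    omega

theorem small_two {n N : ℕ} (hn : 13 ≤ n) (hN : 14 ≤ N)
    (h : (2 ^ n) ^ N ≤ ((4 * (2 + 1)) ^ n) ^ 2 * (1024 * (2 ^ n + 3) ^ 5)) : False := by
  refine ineq (Q := 2 ^ n) (j := 9) (c := ((4 * (2 + 1)) ^ n) ^ 2) (D := 2 ^ n) ?_ ?_ rfl ?_ (by omega) h
  · calc 8192 = 2 ^ 13 := by norm_num
      _ ≤ 2 ^ n := Nat.pow_le_pow_right (by norm_num) hn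
  · calc ((4 * (2 + 1)) ^ n) ^ 2 * 2 ^ n = ((4 * (2 + 1)) ^ 2 * 2) ^ n := by
          rw [← pow_mul, mul_comm n 2, pow_mul, ← mul_pow]
      _ ≤ (2 ^ 9) ^ n := Nat.pow_le_pow_left (by norm_num) n
      _ = (2 ^ n) ^ 9 := by rw [← pow_mul, mul_comm, pow_mul]
  · calc 2048 < 2 ^ 13 := by norm_num
      _ ≤ 2 ^ n := Nat.pow_le_pow_right (by norm_num) hn

theorem small_three {n N : ℕ} (hn : 11 ≤ n) (hN : 12 ≤ N)
    (h : (3 ^ n) ^ N ≤ ((4 * (3 + 1)) ^ n) ^ 2 * (1024 * (3 ^ n + 3) ^ 5)) : False := by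
  refine ineq (Q := 3 ^ n) (j := 7) (c := ((4 * (3 + 1)) ^ n) ^ 2) (D := 8 ^ n) ?_ ?_ rfl ?_ (by omega) h
  · calc 8192 ≤ 3 ^ 11 := by norm_num
      _ ≤ 3 ^ n := Nat.pow_le_pow_right (by norm_num) hn
  · calc ((4 * (3 + 1)) ^ n) ^ 2 * 8 ^ n = ((4 * (3 + 1)) ^ 2 * 8) ^ n := by
          rw [← pow_mul, mul_comm n 2, pow_mul, ← mul_pow]
      _ ≤ (3 ^ 7) ^ n := Nat.pow_le_pow_left (by norm_num) n
      _ = (3 ^ n) ^ 7 := by rw [← pow_mul, mul_comm, pow_mul]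
  · calc 2048 < 8 ^ 11 := by norm_num
      _ ≤ 8 ^ n := Nat.pow_le_pow_right (by norm_num) hn

/-! ### the single cases -/

def okB (n q t B G : ℕ) : Bool :=
  (AA n q % t == 0) && (Nat.gcd t (mm n q) == 1) && (t % ex q != 0) && decide (2 * mm n q + 1 ≤ B) &&
    decide (B < 2 ^ (G + 1)) && decide (2 * 2 * G * (B * (B + 1)) < t)

theorem of_okB (h : TwoD n p f M κ v g) {q t B G : ℕ} (hq : p ^ f = q) (h23 : q = 2 ∨ q = 3)
    (ok : okB n q t B G = true) : False := by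
  simp only [okB, Bool.and_eq_true, decide_eq_true_eq, beq_iff_eq, bne_iff_ne] at ok
  obtain ⟨⟨⟨⟨⟨h1, h2⟩, h3⟩, h4⟩, h5⟩, h6⟩ := ok
  subst hq
  have h7 : t ∣ AA n (p ^ f) := Nat.dvd_of_mod_eq_zero h1
  refine h.smallB h7 (h.cop h7 ?_ ?_ fun _ _ => h2) h2 rfl h4 h5 h6
  · intro _ hq h8
    apply h3
    rw [ex, if_pos hq]
    exact Nat.mod_eq_zero_of_dvd h8
  · intro _ hq h8
    apply h3
    rw [ex, if_neg (by omega)]
    exact Nat.mod_eq_zero_of_dvd h8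

theorem five_three (h : TwoD 5 p f M κ v g) (hq : p ^ f = 3) : False := by
  have h7 : 688462775 ∣ AA 5 (p ^ f) := by
    rw [hq]
    exact Nat.dvd_of_mod_eq_zero (by decide +kernel)
  refine h.smallA (m := 121) (B := 243) (G := 7) h7 (h.cop h7 ?_ ?_ ?_) ?_ (by norm_num) (by norm_num) (by norm_num)
  · intro _ h8; omega
  · intro _ _; norm_num
  · intro h8; omega
  · rw [hq]; decide +kernel

theorem three_two (h : TwoD 3 p f M κ v g) (hq : p ^ f = 2) : False := by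
  have h7 : 2835 ∣ AA 3 (p ^ f) := by
    rw [hq]
    exact Nat.dvd_of_mod_eq_zero (by decide +kernel)
  refine h.enum (m := 7) (B := 15) (G := 3) (d := 1) h7 (h.cop h7 (fun h => by omega) (fun h => by omega)
    (fun h => by omega)) ?_ ?_ (by norm_num) (by norm_num) ?_
  · rw [hq]; decide +kernel
  · rw [hq]; decide +kernel
  · decide +kernel

theorem six_two (h : TwoD 6 p f M κ v g) (hq : p ^ f = 2) : False := by
  have h7 : 284053 ∣ AA 6 (p ^ f) := by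
    rw [hq]
    exact Nat.dvd_of_mod_eq_zero (by decide +kernel)
  have h8 : mm 6 (p ^ f) = 65 := by rw [hq]; decide +kernel
  refine h.enum (m := 65) (B := 131) (G := 7) (d := 1) h7 (h.cop h7 (fun _ _ => by norm_num) (fun _ h => by omega)
    (fun _ _ => ?_)) h8 ?_ (by norm_num) (by norm_num) ?_
  · rw [h8]; norm_num
  · rw [hq]; decide +kernel
  · decide +kernel

theorem six_three (h : TwoD 6 p f M κ v g) (hq : p ^ f = 3) : False := by
  have h7 : 2506004501 ∣ AA 6 (p ^ f) := by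
    rw [hq]
    exact Nat.dvd_of_mod_eq_zero (by decide +kernel)
  have h8 : mm 6 (p ^ f) = 365 := by rw [hq]; decide +kernel
  refine h.enum (m := 365) (B := 731) (G := 9) (d := 2) h7 (h.cop h7 (fun _ h => by omega) (fun _ _ => by norm_num)
    (fun _ _ => ?_)) h8 ?_ (by norm_num) (by norm_num) ?_
  · rw [h8]; norm_num
  · rw [hq]; decide +kernel
  · decide +kernel

theorem ok_list : okB 8 2 13035407 515 9 = true ∧ okB 10 2 126560766563 2051 11 = true ∧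
    okB 12 2 176944734292496863 8195 13 = true ∧ okB 8 3 401572612441 6563 12 = true ∧
    okB 10 3 19447182184915886401 59051 15 = true ∧ okB 7 2 2613325 255 7 = true ∧
    okB 9 2 12760865975 1023 9 = true ∧ okB 11 2 8933563247448125 4095 11 = true ∧
    okB 7 3 17476800425 2187 11 = true ∧ okB 9 3 282176941778765425 19683 14 = true := by
  decide +kernel

/-- everything except `(5, 2)` and `n = 3` -/
theorem main (h : TwoD n p f M κ v g) (hn : 4 ≤ n) (h52 : ¬ (n = 5 ∧ p ^ f = 2)) : False := by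
  obtain ⟨o1, o2, o3, o4, o5, o6, o7, o8, o9, o10⟩ := ok_list
  have hq2 := h.q_ge
  rcases Nat.lt_or_ge (p ^ f) 4 with hq | hq
  · have h23 : p ^ f = 2 ∨ p ^ f = 3 := by omega
    by_cases hev : Even n
    · obtain ⟨k, hk⟩ := hev
      rw [← two_mul] at hk
      subst hk
      rcases h23 with hq | hq
      · rcases Nat.lt_or_ge k 7 with hk | hk
        · have hk2 : 2 ≤ k := by omega
          interval_cases k
          · exact h.rank_four
          · exact h.six_two hq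
          · exact h.of_okB hq (Or.inl rfl) o1
          · exact h.of_okB hq (Or.inl rfl) o2
          · exact h.of_okB hq (Or.inl rfl) o3
        · exact small_two (by omega) (by omega) (h.even_small (by omega) hq (Or.inl rfl))
      · rcases Nat.lt_or_ge k 6 with hk | hk
        · have hk2 : 2 ≤ k := by omega
          interval_cases k
          · exact h.rank_four
          · exact h.six_three hq
          · exact h.of_okB hq (Or.inr rfl) o4
          · exact h.of_okB hq (Or.inr rfl) o5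
        · exact small_three (by omega) (by omega) (h.even_small (by omega) hq (Or.inr rfl))
    · have hodd := Nat.not_even_iff_odd.1 hev
      rcases h23 with hq | hq
      · rcases Nat.lt_or_ge n 13 with hk | hk
        · have hk2 : 5 ≤ n := by
            rcases hodd with ⟨c, hc⟩; omega
          interval_cases n
          · exact h52 ⟨rfl, hq⟩
          · exact hev (by decide)
          · exact h.of_okB hq (Or.inl rfl) o6
          · exact hev (by decide)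
          · exact h.of_okB hq (Or.inl rfl) o7
          · exact hev (by decide)
          · exact h.of_okB hq (Or.inl rfl) o8
          · exact hev (by decide)
        · exact small_two hk (by omega) ((h.odd_small (by omega) hev hq (Or.inl rfl)).trans
            (Nat.mul_le_mul_left _ (Nat.mul_le_mul_right _ (by norm_num))))
      · rcases Nat.lt_or_ge n 11 with hk | hk
        · have hk2 : 5 ≤ n := by
            rcases hodd with ⟨c, hc⟩; omega
          interval_cases n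
          · exact h.five_three hq
          · exact hev (by decide)
          · exact h.of_okB hq (Or.inr rfl) o9
          · exact hev (by decide)
          · exact h.of_okB hq (Or.inr rfl) o10
          · exact hev (by decide)
        · exact small_three hk (by omega) ((h.odd_small (by omega) hev hq (Or.inr rfl)).trans
            (Nat.mul_le_mul_left _ (Nat.mul_le_mul_right _ (by norm_num))))
  · by_cases hev : Even n
    · obtain ⟨k, hk⟩ := hev
      rw [← two_mul] at hk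
      subst hk
      rcases Nat.lt_or_ge k 3 with hk | hk
      · have hk2 : k = 2 := by omega
        subst hk2
        exact h.rank_four
      · exact h.even_large hk hq
    · exact h.odd_large (by
        have hodd := Nat.not_even_iff_odd.1 hev
        rcases hodd with ⟨c, hc⟩; omega) hev hq

end TwoD

/-- **Task E1.** -/
theorem no_two (h : Dat n p f M κ Γ S) {v g : ℕ} (hvp : v ≠ p) (hX : Art.Real (.L 2) v g (Nat.card S))
    (hr : OrdDiv.Real (.psl 2 (v ^ g)) S) : False := by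
  have hD := twoD h hX hr
  have hn := h.hn
  have := h.simple
  have hI : S.index ∣ Art.dd (.L 2) (v ^ g) * g := by
    rw [← card_out_two h.nonab hX hr]
    exact h.index_dvd
  have hTw : ¬ (n = 3 ∧ p ^ f = 2) → Cfsg.Agent.H364.SpTwo.Tw n p f M v g (Nat.card S) S.index := fun h32 =>
    ⟨h.hY, hX, hvp, h.pi, hI, h.fr h32⟩
  rcases Nat.lt_or_ge n 4 with h4 | h4
  · have h3 : n = 3 := by omega
    subst h3
    by_cases hq : p ^ f = 2
    · exact hD.three_two hq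
    · obtain ⟨hq3, hV⟩ := Cfsg.Agent.H364.SpTwo.three (hTw (fun h => hq h.2)) (by have := h.q_ge; omega)
      have h5 := hD.cen.le hD.mpos
      rw [hV, hq3] at h5
      have h6 : mm 3 3 = 13 := by decide +kernel
      rw [h6] at h5
      omega
  · by_cases h52 : n = 5 ∧ p ^ f = 2
    · obtain ⟨rfl, hq⟩ := h52
      exact Cfsg.Agent.H364.SpTwo.five (hTw (fun h => by omega)) hq
    · exact hD.main h4 h52

end Cfsg.Agent.H403.CS
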