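import Mathlib

/-!
# S3677, task E2: `r`-cycles in the alternating groups (helper403)
-/

set_option autoImplicit false

namespace Cfsg.Agent.H403.CS

open Subgroup Equiv Equiv.Perm

theorem exists_cycle {k r : ℕ} (hr : Odd r) (hr1 : 1 < r) (hrk : r ≤ k) :
    ∃ c : Perm (Fin k), c ∈ alternatingGroup (Fin k) ∧ c.IsCycle ∧ c.cycleType = {r} := by
  obtain ⟨m, rfl⟩ : ∃ m, k = m + 1 := ⟨k - 1, by omega⟩
  have h0 : (⟨r - 1, by omega⟩ : Fin (m + 1)) ≠ 0 := by
    intro h
    have := congrArg Fin.val h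
    simp only [Fin.val_zero] at this
    omega
  refine ⟨Fin.cycleRange ⟨r - 1, by omega⟩, ?_, Fin.isCycle_cycleRange h0, ?_⟩
  · rw [mem_alternatingGroup, Fin.sign_cycleRange]
    obtain ⟨a, ha⟩ := hr
    exact Even.neg_one_pow ⟨a, by simp only; omega⟩
  · rw [Fin.cycleType_cycleRange h0]
    have : r - 1 + 1 = r := by omega
    simp only [this]

/-- the centralizer in the alternating group -/
theorem cent_dvd {k : ℕ} (c : alternatingGroup (Fin k)) :
    Nat.card (centralizer ({(c : Perm (Fin k))} : Set (Perm (Fin k)))) ∣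
      2 * Nat.card (centralizer ({c} : Set (alternatingGroup (Fin k)))) := by
  set H := centralizer ({(c : Perm (Fin k))} : Set (Perm (Fin k)))
  let φ : H →* ℤˣ := Perm.sign.comp H.subtype
  have h1 : Nat.card H = Nat.card φ.ker * Nat.card φ.range := by
    rw [← Subgroup.index_ker, Subgroup.card_mul_index]
  have h2 : Nat.card φ.range ∣ 2 := by
    have := Subgroup.card_subgroup_dvd_card φ.range
    rwa [Nat.card_eq_fintype_card (α := ℤˣ), Fintype.card_units_int] at this
  have h3 : Nat.card φ.ker = Nat.card (centralizer ({c} : Set (alternatingGroup (Fin k)))) := by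
    refine Nat.card_congr ⟨fun x => ⟨⟨x.1.1, ?_⟩, ?_⟩, fun x => ⟨⟨x.1.1, ?_⟩, ?_⟩, fun x => rfl, fun x => rfl⟩
    · exact mem_alternatingGroup.2 (MonoidHom.mem_ker.1 x.2)
    · rw [Subgroup.mem_centralizer_singleton_iff]
      apply Subtype.ext
      exact Subgroup.mem_centralizer_singleton_iff.1 x.1.2
    · rw [Subgroup.mem_centralizer_singleton_iff]
      have := Subgroup.mem_centralizer_singleton_iff.1 x.2
      exact congrArg Subtype.val this
    · exact MonoidHom.mem_ker.2 (mem_alternatingGroup.1 x.1.2)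
  rw [h1, h3, mul_comm]
  exact Nat.mul_dvd_mul_right h2 _

theorem even_cent {k r : ℕ} (c : alternatingGroup (Fin k)) (hc : (c : Perm (Fin k)).cycleType = {r}) (h : r + 4 ≤ k) :
    Even (Nat.card (centralizer ({c} : Set (alternatingGroup (Fin k))))) := by
  have h1 := cent_dvd c
  rw [nat_card_centralizer, hc, Multiset.sum_singleton, Multiset.prod_singleton, Fintype.card_fin] at h1
  have h2 : 24 ∣ (k - r).factorial := Nat.factorial_dvd_factorial (show 4 ≤ k - r by omega)
  have h3 : 24 ∣ 2 * Nat.card (centralizer ({c} : Set (alternatingGroup (Fin k)))) :=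
    ((h2.mul_right _).mul_right _).trans h1
  rw [even_iff_two_dvd]
  omega

theorem conj_sq {k r : ℕ} (hr : r.Prime) {c : Perm (Fin k)} (hc : c.IsCycle) (ho : orderOf c = r) {j : ℕ}
    (hj0 : 0 < j) (hjr : j < r) : ∃ g : Perm (Fin k), g ∈ alternatingGroup (Fin k) ∧ g * c * g⁻¹ = c ^ (j ^ 2) := by
  have h1 : (c ^ j).IsCycle := hc.isCycle_pow_pos_of_lt_prime_order (by rw [ho]; exact hr) j hj0 (by rw [ho]; exact hjr)
  have h2 : (c ^ j).support = c.support := by
    apply support_pow_coprime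
    rw [ho]
    exact (Nat.coprime_of_lt_prime hj0.ne' hjr hr).symm
  have h3 : IsConj c (c ^ j) := (hc.isConj_iff h1).2 (by rw [h2])
  obtain ⟨g, hg⟩ := isConj_iff.1 h3
  refine ⟨g * g, ?_, ?_⟩
  · rw [mem_alternatingGroup, map_mul, Int.units_mul_self]
  · calc g * g * c * (g * g)⁻¹ = g * (g * c * g⁻¹) * g⁻¹ := by group
      _ = g * c ^ j * g⁻¹ := by rw [hg]
      _ = (g * c * g⁻¹) ^ j := by rw [conj_pow]
      _ = (c ^ j) ^ j := by rw [hg]
      _ = c ^ (j ^ 2) := by rw [← pow_mul, sq]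

theorem fus_count {Γ : Type*} [Group Γ] [Finite Γ] {y : Γ} {r : ℕ} (hr : r.Prime) (hy : orderOf y = r)
    (hconj : ∀ j, 0 < j → j < r → IsConj y (y ^ (j ^ 2))) :
    (r - 1) / 2 ≤ Nat.card {z : Γ // z ∈ zpowers y ∧ IsConj y z} := by
  have h1 := Nat.card_fin ((r - 1) / 2)
  rw [← h1]
  refine Nat.card_le_card_of_injective
    (fun i => ⟨y ^ ((i.1 + 1) ^ 2), npow_mem_zpowers y _, hconj (i.1 + 1) (by omega) (by have := i.2; omega)⟩) ?_
  intro i j hij
  have h2 : y ^ ((i.1 + 1) ^ 2) = y ^ ((j.1 + 1) ^ 2) := congrArg Subtype.val hij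
  rw [pow_inj_mod, hy] at h2
  have hi := i.2
  have hj := j.2
  have key : ∀ a b : ℕ, a < b → b < (r - 1) / 2 → (a + 1) ^ 2 % r = (b + 1) ^ 2 % r → False := by
    intro a b hab hb h
    have h3 : r ∣ (b + 1) ^ 2 - (a + 1) ^ 2 := (Nat.modEq_iff_dvd' (Nat.pow_le_pow_left (by omega) 2)).1 h
    rw [Nat.sq_sub_sq] at h3
    rcases (Nat.Prime.dvd_mul hr).1 h3 with h4 | h4
    · have := Nat.le_of_dvd (by omega) h4
      omega
    · have := Nat.le_of_dvd (by omega) h4
      omega
  apply Fin.ext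
  rcases Nat.lt_trichotomy i.1 j.1 with h | h | h
  · exact (key _ _ h hj h2).elim
  · exact h
  · exact (key _ _ h hi h2.symm).elim

end Cfsg.Agent.H403.CS
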